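import Cfsg.Agent.H69.OctTwF
import Cfsg.Agent.S1113
import Cfsg.Agent.S1111

/-!
# The (B,N)-pair of `²F₄(q)`, `q = 2` included, with the sizes of the panels (S4899)
-/

set_option autoImplicit false
set_option linter.unusedSectionVars false

namespace Cfsg.Agent.H740.Eight.TwFTwo

open Cfsg.Lie
open Cfsg.Agent.ChevalleyStructure.TwF4.Tables
open Cfsg.Agent.ChevalleyStructure.TwF4.Rel
open Cfsg.Agent.ChevalleyStructure.TwF4.Groups Cfsg.Agent.ChevalleyStructure.TwF4.RankOne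
open Cfsg.Agent.ChevalleyStructure.TwF4.Twisted Cfsg.Agent.ChevalleyStructure.TwF4.TwistedFix
open Cfsg.Agent.ChevalleyStructure.TwF4.BN
open Cfsg.Agent.ChevalleyStructure.TwF4.Torus (T chi T_conj_X T_inr chi_def)
open Cfsg.Agent.ChevalleyStructure.F4NTab (ca)
open Cfsg.Agent.ChevalleyStructure.TwF4.TwGen (tc tc_mul chi_tc_24 chi_tc_25 chi_tc_33 chi_tc_27 chi28 chi30 pow_all
  n1_eq n2_eq n1_conj_T n2_conj_T)
open Cfsg.Agent.ChevalleyStructure.TwF4.TorusFix (mem_iff pow_unit T_rt rt)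
open Cfsg.Agent.ChevalleyStructure.TwF4.Fix (Fix)
open Cfsg.Agent.ChevalleyStructure.TwF4.OrderCls (X_inj)
open Cfsg.Agent.Schreier.TwFFour Cfsg.Agent.Schreier.BNSch
open Cfsg.Agent.Octagon.KSys Cfsg.Agent.Octagon.KPar Cfsg.Agent.Octagon.KRoot Cfsg.Agent.Octagon.Pkg
open Cfsg.Agent.ParSys.Fam.TwoFFour Cfsg.Agent.FixBN Cfsg.Agent.H69.OctTwF

variable {K : Type*} [Field K] [Fintype K] [CharP K 2] {e : ℕ} {φ : K →+* K}

omit [CharP K 2] in
/-- **The split (B,N)-pair of `²F₄(q)`**, with the order of the Weyl group and the sizes of the panels (`q = 2`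
included; the proof for `q > 2` is `H69.OctTwF.exists_pair`). -/
theorem exists_pair {m : ℕ} (hK : Fintype.card K = 2 ^ (2 * m + 1)) :
    ∃ (Q : Cfsg.BNPair ↥(twistedF4 K (2 ^ m))) (UE : Subgroup ↥(twistedF4 K (2 ^ m)))
      (s t : ↥(twistedF4 K (2 ^ m))) (V V' : Subgroup ↥(twistedF4 K (2 ^ m))), FixBN.Split Q 2 UE ∧ Q.S = {s, t} ∧
      (Q.B ⊓ Q.N).relIndex Q.N = 16 ∧ Node Q UE s V ∧ Node Q UE t V' ∧ V.relIndex UE = 2 ^ (2 * m + 1) ∧
      V'.relIndex UE = (2 ^ (2 * m + 1)) ^ 2 ∧ Nat.card UE = (2 ^ (2 * m + 1)) ^ 12 ∧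
      Nat.card ↥(Q.B ⊓ Q.N) = (2 ^ (2 * m + 1) - 1) ^ 2 := by
  have : CharP K 2 := charP_two hK
  have : Fact (Nat.Prime 2) := ⟨Nat.prime_two⟩
  obtain ⟨φ, hφ⟩ := exists_rln hK
  obtain ⟨P, hPB, hPN, -, hPS⟩ := Cfsg.Agent.ChevalleyStructure.TwF4.BNIrred.exists_bnPair_irreducible hφ
  have hB : P.B = B0 K (2 ^ m) := hPB
  have hdec := dec hK hφ
  have hUp := isPGroup_U0 hK
  set s1 : ↥(twistedF4 K (2 ^ m)) := m1 K (2 ^ m) with hs1
  set s2 : ↥(twistedF4 K (2 ^ m)) := m2 hφ with hs2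
  have node_1 : Cfsg.Agent.Schreier.BNSch.Node P (U0 K (2 ^ m)) s1 (V1 K (2 ^ m)) := node1 hφ hB
  have node_2 : Cfsg.Agent.Schreier.BNSch.Node P (U0 K (2 ^ m)) s2 (V8 K (2 ^ m)) := node2 hφ hB
  have hdB : ∀ b ∈ P.B, ∃ s t : Kˣ, ∃ u ∈ U0 K (2 ^ m), b = u * tt hdec s t := by
    intro b hb
    rw [hB] at hb
    obtain ⟨s, t, u, hu, hbu⟩ := hdec.1 b hb
    exact ⟨s, t, u, hu, Subtype.ext hbu⟩
  have httB : ∀ s t : Kˣ, tt hdec s t ∈ P.B := fun s t => by rw [hB]; exact tt_B0 hdec s t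
  have httN : ∀ s t : Kˣ, tt hdec s t ∈ P.N := fun s t => by
    rw [hPN]
    exact Cfsg.Agent.ChevalleyStructure.TwF4.NStruct.T_mem_N _
  have hH : ∀ h ∈ P.B, h ∈ P.N → ∃ s t : Kˣ, h = tt hdec s t := by
    intro h hh hN
    rw [hPB, Subgroup.mem_subgroupOf] at hh
    rw [hPN, Subgroup.mem_subgroupOf] at hN
    have h1 := borel_inf_N ⟨hh, hN⟩
    obtain ⟨s, t, hst⟩ := (mem_iff hK (h : GL chevF4.Idx K)).1 ⟨h1, h.2⟩
    exact ⟨s, t, Subtype.ext hst⟩
  have hUB : U0 K (2 ^ m) ≤ P.B := by rw [hB]; exact U0_le_B0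
  have hnorm : ∀ b ∈ P.B, ∀ u ∈ U0 K (2 ^ m), b * u * b⁻¹ ∈ U0 K (2 ^ m) := fun b hb u hu => by
    rw [hB] at hb
    exact conj_U0 hb hu
  have hsplit : FixBN.Split P 2 (U0 K (2 ^ m)) :=
    { le := hUB
      norm := hnorm
      isP := hUp
      cover := fun b hb => by
        obtain ⟨s, t, u, hu, rfl⟩ := hdB b hb
        refine ⟨u, hu, ?_⟩
        rw [inv_mul_cancel_left]
        exact httN s t
      tor := ⟨2 ^ (2 * m + 1) - 1, by
        have h1 : 2 ∣ 2 ^ (2 * m + 1) := dvd_pow_self 2 (by omega)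
        have h2 : 0 < 2 ^ (2 * m + 1) := by positivity
        omega, fun h hh hN => by
        obtain ⟨s, t, rfl⟩ := hH h hh hN
        apply Subtype.ext
        show T (tc (2 ^ m) s t) ^ (2 ^ (2 * m + 1) - 1) = 1
        rw [← map_pow]
        have h2 : tc (2 ^ m) s t ^ (2 ^ (2 * m + 1) - 1) = 1 := by
          have h3 : ∀ x : Kˣ, x ^ (2 ^ (2 * m + 1) - 1) = 1 := by
            intro x
            have h4 := pow_card_eq_one' (x := x)
            rwa [Nat.card_units, Nat.card_eq_fintype_card, hK] at h4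
          funext l
          rw [Pi.pow_apply, h3]; rfl
        rw [h2, map_one]⟩
      node := by
        intro s hs
        rw [hPS] at hs
        rcases hs with rfl | hs
        · exact ⟨_, node_1⟩
        · rw [Set.mem_singleton_iff] at hs
          subst hs
          exact ⟨_, node_2⟩
      core := by
        rw [hPB, ← Subgroup.inf_subgroupOf_right]
        exact Cfsg.Agent.S1113.result hK }
  have h3 : P.B ⊓ P.N = (chevF4.diagonalSubgroup K ⊓ twistedF4 K (2 ^ m)).subgroupOf (twistedF4 K (2 ^ m)) := by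
    rw [hPB, hPN, Subgroup.inf_subgroupOf_right]
    apply le_antisymm
    · rintro x ⟨hx1, hx2⟩
      exact borel_inf_N ⟨hx1, hx2⟩
    · intro x hx
      have h4 : (x : GL chevF4.Idx K) ∈ chevF4.diagonalSubgroup K := hx
      exact ⟨(le_sup_right : _ ≤ chevF4.posUnipotent K ⊔ chevF4.diagonalSubgroup K) h4,
        (le_sup_left : chevF4.diagonalSubgroup K ≤ chevF4.monomialSubgroup K) h4⟩
  refine ⟨P, U0 K (2 ^ m), s1, s2, V1 K (2 ^ m), V8 K (2 ^ m), hsplit, hPS, ?_, node_1, node_2, ?_, ?_, ?_, ?_⟩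
  · obtain ⟨ψ, hψ, hker⟩ := Cfsg.Agent.S1111.result hK
    have h1 : ((chevF4.diagonalSubgroup K ⊓ twistedF4 K (2 ^ m)).relIndex
        (chevF4.monomialSubgroup K ⊓ twistedF4 K (2 ^ m))) = 16 := by
      rw [Subgroup.relIndex, ← hker, Subgroup.index_ker, MonoidHom.range_eq_top.2 hψ, Subgroup.card_top]
      rw [DihedralGroup.nat_card]
    have h2 : P.N = (chevF4.monomialSubgroup K ⊓ twistedF4 K (2 ^ m)).subgroupOf (twistedF4 K (2 ^ m)) := by
      rw [hPN, Subgroup.inf_subgroupOf_right]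
    rw [h3, h2, Subgroup.relIndex_subgroupOf inf_le_right, h1]
  · rw [relIndex_V1 hφ, Nat.card_eq_fintype_card, hK]
  · rw [relIndex_V8 hφ, Nat.card_eq_fintype_card, hK]
  · rw [← Cfsg.Agent.S1090.result hK]
    have h2 : (U0 K (2 ^ m)).map (twistedF4 K (2 ^ m)).subtype = chevF4.posUnipotent K ⊓ twistedF4 K (2 ^ m) := by
      rw [U0, Subgroup.subgroupOf_map_subtype, posUnipotent_eq]
    rw [← h2]
    exact Nat.card_congr ((U0 K (2 ^ m)).equivMapOfInjective _ (Subgroup.subtype_injective _)).toEquiv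
  · rw [h3, ← Cfsg.Agent.S1110.result hK]
    exact Nat.card_congr (Subgroup.subgroupOfEquivOfLe inf_le_right).toEquiv

/-- the order of `B` -/
theorem card_B {G : Type*} [Group G] {Q : Cfsg.BNPair G} {p : ℕ} [hp : Fact p.Prime] {UE : Subgroup G}
    (hsp : FixBN.Split Q p UE) : Nat.card Q.B = Nat.card UE * Nat.card ↥(Q.B ⊓ Q.N) := by
  have h1 : Subgroup.IsComplement' (UE.subgroupOf Q.B) ((Q.B ⊓ Q.N).subgroupOf Q.B) := by
    refine Subgroup.isComplement'_of_disjoint_and_mul_eq_univ ?_ ?_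
    · rw [disjoint_iff, eq_bot_iff]
      rintro x ⟨hx1, hx2⟩
      obtain ⟨k, hk, hk'⟩ := hsp.tor
      have h3 := hk' x x.2 (Subgroup.mem_subgroupOf.1 hx2).2
      obtain ⟨l, hl⟩ := hsp.isP ⟨_, Subgroup.mem_subgroupOf.1 hx1⟩
      have h4 : ((x : Q.B) : G) ^ p ^ l = 1 := congrArg Subtype.val hl
      have h5 := Nat.dvd_gcd (orderOf_dvd_of_pow_eq_one h3) (orderOf_dvd_of_pow_eq_one h4)
      have h6 : Nat.gcd k (p ^ l) = 1 :=
        Nat.Coprime.pow_right l (Nat.coprime_comm.1 ((Nat.Prime.coprime_iff_not_dvd hp.out).2 hk))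
      rw [h6, Nat.dvd_one, orderOf_eq_one_iff] at h5
      exact Subtype.ext h5
    · rw [Set.eq_univ_iff_forall]
      intro b
      obtain ⟨u, hu, hun⟩ := hsp.cover b b.2
      refine Set.mem_mul.2 ⟨⟨u, hsp.le hu⟩, hu, ⟨u, hsp.le hu⟩⁻¹ * b, ?_, by group⟩
      exact Subgroup.mem_subgroupOf.2 ⟨SetLike.coe_mem _, hun⟩
  have h2 := h1.card_mul_card
  have h3 : Nat.card (UE.subgroupOf Q.B) = Nat.card UE :=
    Nat.card_congr (Subgroup.subgroupOfEquivOfLe hsp.le).toEquiv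
  have h4 : Nat.card ((Q.B ⊓ Q.N).subgroupOf Q.B) = Nat.card ↥(Q.B ⊓ Q.N) :=
    Nat.card_congr (Subgroup.subgroupOfEquivOfLe inf_le_left).toEquiv
  rw [h3, h4] at h2
  exact h2.symm

end Cfsg.Agent.H740.Eight.TwFTwo
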