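import Cfsg.Agent.H740.Eight.OctDeg
import Cfsg.Agent.H740.Eight.TwFTwo
import Cfsg.Agent.H664.Eight.Base
import Cfsg.Agent.H424.DegTools
import Cfsg.Agent.H794.TitsPP
import Cfsg.Agent.H29.TitsExt
import Cfsg.Agent.S1074

/-!
# The Tits group has at least eight character degrees (S4899)

`1`, `27` (the representation of `H29`), `351`, `675`, `78` or `39`, `650` or `325`, `1248` or `624`, `2048`: the
constituents of the restrictions of the principal series characters of `²F₄(2)`.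
-/

set_option autoImplicit false
set_option linter.unusedSectionVars false

namespace Cfsg.Agent.H740.Eight.Tits

open Cfsg Cfsg.Agent.H664.Eight

universe u

/-- `2048` -/
theorem mem_2048 : 2048 ∈ charDegrees Cfsg.Lie.TitsGroup := by
  have : Fact (Nat.Prime 2) := ⟨Nat.prime_two⟩
  obtain ⟨hidx, -, -, hcard⟩ := Cfsg.Agent.S1074.result
  have h0 : FixBN.HasSplit 2 ↥(Cfsg.Lie.twistedF4 (ZMod 2) 1) :=
    H794.TitsPP.hasSplit (K := ZMod 2) (m := 0) (by simp)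
  obtain ⟨χ, hχ, h1⟩ := Cfsg.Agent.H163.Steinberg.exists_irr_of_hasSplit h0
  obtain ⟨h2, -⟩ := h1 default
  have hcard' : Nat.card ↥(Cfsg.Lie.twistedF4 (ZMod 2) 1) = 2 ^ 12 * (3 ^ 3 * 5 ^ 2 * 13) := by
    rw [← Subgroup.card_mul_index (commutator ↥(Cfsg.Lie.twistedF4 (ZMod 2) 1)), hidx]
    have h3 : Nat.card (commutator ↥(Cfsg.Lie.twistedF4 (ZMod 2) 1)) = 2 ^ 11 * 3 ^ 3 * 5 ^ 2 * 13 := hcard
    rw [h3]
    norm_num
  have hQ : Nat.card (default : Sylow 2 ↥(Cfsg.Lie.twistedF4 (ZMod 2) 1)) = 2 ^ 12 := by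
    rw [Sylow.card_eq_multiplicity, hcard', Nat.factorization_mul (by norm_num) (by norm_num), Finsupp.add_apply,
      Nat.prime_two.factorization_pow, Finsupp.single_eq_same,
      Nat.factorization_eq_zero_of_not_dvd (by norm_num), add_zero]
  rw [hQ] at h2
  have hfin : Finite ↥(Cfsg.Lie.twistedF4 (ZMod 2) 1) :=
    Nat.finite_of_card_ne_zero (by rw [hcard']; norm_num)
  have h3 : 2 ^ 12 ∈ charDegrees ↥(Cfsg.Lie.twistedF4 (ZMod 2) 1) :=
    ⟨⟨χ, hχ⟩, Blocks.Basic.charDegree_of_eq h2⟩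
  obtain ⟨c, hc, hcd, hci⟩ := H424.DegTools.clifford_down (commutator ↥(Cfsg.Lie.twistedF4 (ZMod 2) 1)) h3
  rw [hidx] at hci
  have hfin' : Finite (commutator ↥(Cfsg.Lie.twistedF4 (ZMod 2) 1)) := inferInstance
  have h4 : c ∣ 2 ^ 11 * 3 ^ 3 * 5 ^ 2 * 13 := by
    rw [← hcard]
    exact H424.DegTools.dvd_card hc
  obtain ⟨j, hj, rfl⟩ := (Nat.dvd_prime_pow Nat.prime_two).1 hcd
  rw [Nat.pow_div hj (by norm_num)] at hci
  have h5 : j = 11 ∨ j = 12 := by
    have h6 : 2 ^ (12 - j) ∣ 2 ^ 1 := hci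
    have h7 := Nat.pow_dvd_pow_iff_le_right' |>.1 h6
    omega
  rcases h5 with rfl | rfl
  · exact hc
  · norm_num at h4

/-- the degrees of `²F₄(2)` -/
theorem degs : 351 ∈ charDegrees ↥(Cfsg.Lie.twistedF4 (ZMod 2) 1) ∧ 650 ∈ charDegrees ↥(Cfsg.Lie.twistedF4 (ZMod 2) 1) ∧
    675 ∈ charDegrees ↥(Cfsg.Lie.twistedF4 (ZMod 2) 1) ∧ 1248 ∈ charDegrees ↥(Cfsg.Lie.twistedF4 (ZMod 2) 1) ∧
    78 ∈ charDegrees ↥(Cfsg.Lie.twistedF4 (ZMod 2) 1) := by
  have : Fact (Nat.Prime 2) := ⟨Nat.prime_two⟩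
  obtain ⟨hidx, -, -, hcard⟩ := Cfsg.Agent.S1074.result
  have hcard' : Nat.card ↥(Cfsg.Lie.twistedF4 (ZMod 2) 1) = 2 ^ 12 * (3 ^ 3 * 5 ^ 2 * 13) := by
    rw [← Subgroup.card_mul_index (commutator ↥(Cfsg.Lie.twistedF4 (ZMod 2) 1)), hidx]
    have h3 : Nat.card (commutator ↥(Cfsg.Lie.twistedF4 (ZMod 2) 1)) = 2 ^ 11 * 3 ^ 3 * 5 ^ 2 * 13 := hcard
    rw [h3]
    norm_num
  have hfin : Finite ↥(Cfsg.Lie.twistedF4 (ZMod 2) 1) :=
    Nat.finite_of_card_ne_zero (by rw [hcard']; norm_num)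
  obtain ⟨Q, UE, s, t, V, V', hsp, hS, hrel, nV, nV', iV, iV', cU, cT⟩ :=
    TwFTwo.exists_pair (K := ZMod 2) (m := 0) (by simp)
  have hsS : s ∈ Q.S := by rw [hS]; simp
  have htS : t ∈ Q.S := by rw [hS]; simp
  have hqs := HeckeDeg.q_eq hsp hsS nV
  have hqt := HeckeDeg.q_eq hsp htS nV'
  rw [iV] at hqs
  rw [iV'] at hqt
  have hst : s ≠ t := by
    rintro rfl
    rw [hqs] at hqt
    norm_num at hqt
  have hB := TwFTwo.card_B hsp
  rw [cU, cT] at hB
  have hN : Nat.card (↥(Cfsg.Lie.twistedF4 (ZMod 2) 1) ⧸ Q.B) = 8775 := by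
    have h1 := Q.B.card_mul_index
    have h2 : Nat.card ↥(Cfsg.Lie.twistedF4 (ZMod 2) (2 ^ 0)) = 2 ^ 12 * (3 ^ 3 * 5 ^ 2 * 13) := hcard'
    rw [hB, h2] at h1
    have h3 : Q.B.index = 8775 := by
      norm_num at h1
      omega
    rw [← h3, Subgroup.index_eq_card]
    rfl
  exact OctDeg.degs (P := Q) hS hst hrel (by rw [hqs]; norm_num) (by rw [hqt]; norm_num) hN

theorem down {d : ℕ} (h : d ∈ charDegrees ↥(Cfsg.Lie.twistedF4 (ZMod 2) 1)) :
    ∃ c ∈ charDegrees Cfsg.Lie.TitsGroup, c = d ∨ 2 * c = d := by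
  obtain ⟨hidx, -, -, hcard⟩ := Cfsg.Agent.S1074.result
  have hfin : Finite ↥(Cfsg.Lie.twistedF4 (ZMod 2) 1) := by
    refine Nat.finite_of_card_ne_zero ?_
    rw [← Subgroup.card_mul_index (commutator ↥(Cfsg.Lie.twistedF4 (ZMod 2) 1)), hidx]
    have h3 : Nat.card (commutator ↥(Cfsg.Lie.twistedF4 (ZMod 2) 1)) = 2 ^ 11 * 3 ^ 3 * 5 ^ 2 * 13 := hcard
    rw [h3]
    norm_num
  obtain ⟨c, hc, hcd, hci⟩ := H424.DegTools.clifford_down (commutator ↥(Cfsg.Lie.twistedF4 (ZMod 2) 1)) h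
  rw [hidx] at hci
  refine ⟨c, hc, ?_⟩
  obtain ⟨k, rfl⟩ := hcd
  rcases Nat.eq_zero_or_pos c with h0 | h0
  · left
    rw [h0, zero_mul]
  · rw [Nat.mul_div_cancel_left _ h0] at hci
    rcases (Nat.dvd_prime Nat.prime_two).1 hci with rfl | rfl
    · left; rw [mul_one]
    · right; rw [mul_comm]

/-- transport, abstract -/
theorem mem_of_equiv {S : Type u} [Group S] {A : Type} [Group A] (T : Subgroup A) (e : Nonempty (S ≃* commutator T))
    {d : ℕ} (hd : d ∈ charDegrees (commutator T)) : d ∈ charDegrees S := by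
  obtain ⟨e⟩ := e
  rw [charDegrees_congr e]
  exact hd

open Cfsg.Agent.H29.TitsMat Cfsg.Agent.H29.TitsHom Cfsg.Agent.H29.TitsExt
  Cfsg.Agent.Omega.TitsIso.TitsSideRel Cfsg.Agent.Omega.TitsIso.TitsSide in
/-- `27` -/
theorem mem_27_aux : 27 ∈ charDegrees T := by
  have := Omega.TwoF.TitsAut.fin_H0
  obtain ⟨σ, hσ⟩ := exists_hom
  have hirr : IsIrrCharacter T (rep σ).character := ⟨27, rep σ, irreducible_rep hσ, rfl⟩
  refine ⟨⟨_, hirr⟩, Blocks.Basic.charDegree_of_eq ?_⟩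
  show (rep σ).character 1 = _
  rw [character_rep, map_one, Units.val_one, Matrix.trace_one, Fintype.card_fin]

/-- `27` -/
theorem mem_27 {S : Type u} [Group S] (h : Lie.IsoTits S) : 27 ∈ charDegrees S := by
  obtain ⟨K, hK, he⟩ := Omega.TwoF.TitsAut.exists_equiv h
  subst hK
  exact mem_of_equiv _ he mem_27_aux

/-- abstract form -/
theorem eight_aux {S : Type u} [Group S] [Finite S] {A : Type} [Group A] (T : Subgroup A)
    (e : Nonempty (S ≃* commutator T)) (h27 : 27 ∈ charDegrees S) (h2048 : 2048 ∈ charDegrees (commutator T))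
    (hd : 351 ∈ charDegrees T ∧ 650 ∈ charDegrees T ∧ 675 ∈ charDegrees T ∧ 1248 ∈ charDegrees T ∧
      78 ∈ charDegrees T)
    (hdown : ∀ d ∈ charDegrees T, ∃ c ∈ charDegrees (commutator T), c = d ∨ 2 * c = d) : Eight S := by
  have key : ∀ {d : ℕ}, d ∈ charDegrees T → ∃ c ∈ charDegrees S, c = d ∨ 2 * c = d := by
    intro d hd
    obtain ⟨c, hc, h1⟩ := hdown d hd
    exact ⟨c, mem_of_equiv T e hc, h1⟩
  have h2048' : 2048 ∈ charDegrees S := mem_of_equiv T e h2048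
  obtain ⟨d1, d2, d3, d4, d5⟩ := hd
  obtain ⟨c1, m1, e1⟩ := key d1
  obtain ⟨c2, m2, e2⟩ := key d2
  obtain ⟨c3, m3, e3⟩ := key d3
  obtain ⟨c4, m4, e4⟩ := key d4
  obtain ⟨c5, m5, e5⟩ := key d5
  obtain rfl : c1 = 351 := by omega
  obtain rfl : c3 = 675 := by omega
  refine eight_of_list [1, 27, c5, c2, 351, 675, c4, 2048] ?_ (by simp) ?_
  · simp only [List.nodup_cons, List.mem_cons, List.not_mem_nil, or_false, not_or, List.nodup_nil, and_true,
      not_false_eq_true]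
    omega
  · intro d hd
    simp only [List.mem_cons, List.not_mem_nil, or_false] at hd
    rcases hd with rfl | rfl | rfl | rfl | rfl | rfl | rfl | rfl
    · exact one_mem
    all_goals assumption

/-- **The Tits group has at least eight character degrees.** -/
theorem eight_tits {S : Type u} [Group S] [Finite S] (h : Lie.IsoTits S) : Eight S :=
  eight_aux (Cfsg.Lie.twistedF4 (ZMod 2) 1) h (mem_27 h) mem_2048 degs fun _ hd => down hd

end Cfsg.Agent.H740.Eight.Tits
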