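import Cfsg.Agent.LieRecognition.FeitHigmanHecke

/-!
# Idempotents of a two-generator Hecke algebra, traces (S4899)

`A² = (a-1) A + a`, `B² = (b-1) B + b`, `Y` the central element of `FeitHigmanHecke`.
-/

set_option autoImplicit false
set_option linter.unusedSectionVars false

namespace Cfsg.Agent.H740.Eight.HeckeAlg

open Cfsg.Agent.LieRecognition.FeitHigmanHecke

section idem

variable {M : Type*} [Ring M] [Algebra ℝ M] {A B p : M} {a b θ : ℝ}

/-- the idempotent attached to a central idempotent `p` -/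
noncomputable def ee (A p : M) (a : ℝ) : M := (1 + a)⁻¹ • (p * (1 + A))

theorem ee_def (A p : M) (a : ℝ) : ee A p a = (1 + a)⁻¹ • (p * (1 + A)) := rfl

variable (hA : A * A = (a - 1) • A + a • (1 : M)) (ha : 1 + a ≠ 0)

include hA in
theorem one_add_mul : (1 + A) * A = a • (1 + A) := by
  rw [add_mul, one_mul, hA]
  module

include hA in
theorem mul_one_add : A * (1 + A) = a • (1 + A) := by
  rw [mul_add, mul_one, hA]
  module

include hA in
theorem A_ee (hpA : A * p = p * A) : A * ee A p a = a • ee A p a := by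
  rw [ee_def, mul_smul_comm, ← mul_assoc, hpA, mul_assoc, mul_one_add hA, mul_smul_comm, smul_comm]

include hA in
theorem ee_A : ee A p a * A = a • ee A p a := by
  rw [ee_def, smul_mul_assoc, mul_assoc, one_add_mul hA, mul_smul_comm, smul_comm]

theorem p_ee (hpp : p * p = p) : p * ee A p a = ee A p a := by
  rw [ee_def, mul_smul_comm, ← mul_assoc, hpp]

theorem ee_p (hpA : A * p = p * A) (hpp : p * p = p) : ee A p a * p = ee A p a := by
  have h1 : (1 + A) * p = p * (1 + A) := by rw [add_mul, mul_add, one_mul, mul_one, hpA]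
  rw [ee_def, smul_mul_assoc, mul_assoc, h1, ← mul_assoc, hpp]

include hA ha in
theorem ee_sq (hpA : A * p = p * A) (hpp : p * p = p) : ee A p a * ee A p a = ee A p a := by
  have h1 : ee A p a * (p * (1 + A)) = (1 + a) • ee A p a := by
    rw [← mul_assoc, ee_p hpA hpp, mul_add, mul_one, ee_A hA]
    module
  nth_rw 2 [ee_def]
  rw [mul_smul_comm, h1, smul_smul, inv_mul_cancel₀ ha, one_smul]

variable (hY : Y A B a b * p = θ • p)

include hY in
theorem Y_ee : Y A B a b * ee A p a = θ • ee A p a := by
  rw [ee_def, mul_smul_comm, ← mul_assoc, hY, smul_mul_assoc, smul_comm]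

include hA hY in
theorem A_B_ee (hpA : A * p = p * A) :
    A * (B * ee A p a) = (θ + b - 1) • ee A p a + (-1 : ℝ) • (B * ee A p a) := by
  have h1 := Y_ee (A := A) (B := B) (p := p) (a := a) (b := b) hY
  have h2 := A_ee hA hpA
  rw [Y_def, add_mul, sub_mul, sub_mul, add_mul, smul_mul_assoc, smul_mul_assoc, smul_mul_assoc, one_mul,
    mul_assoc B A, h2, mul_smul_comm, mul_assoc A B] at h1
  have h3 : A * (B * ee A p a) = θ • ee A p a - a • (B * ee A p a) + (b - 1) • a • ee A p a +
      (a - 1) • (B * ee A p a) - ((a - 1) * (b - 1)) • ee A p a := by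
    rw [← h1]
    abel
  rw [h3]
  module

include hA ha hY in
theorem ee_B_ee (hpA : A * p = p * A) (hpp : p * p = p) :
    ee A p a * (B * ee A p a) = ((θ + b - 1) / (1 + a)) • ee A p a := by
  have h1 := A_B_ee hA hY hpA
  have h2 : ee A p a * (A * (B * ee A p a)) =
      ee A p a * ((θ + b - 1) • ee A p a + (-1 : ℝ) • (B * ee A p a)) := by rw [h1]
  rw [← mul_assoc (ee A p a) A, ee_A hA, smul_mul_assoc, mul_add, mul_smul_comm, mul_smul_comm, ee_sq hA ha hpA hpp]
    at h2
  have h3 : (1 + a) • (ee A p a * (B * ee A p a)) = (θ + b - 1) • ee A p a := by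
    rw [add_smul, one_smul, h2]
    module
  have h4 : ee A p a * (B * ee A p a) = (1 + a)⁻¹ • ((1 + a) • (ee A p a * (B * ee A p a))) := by
    rw [smul_smul, inv_mul_cancel₀ ha, one_smul]
  rw [h4, h3, smul_smul]
  congr 1
  ring

end idem

section trace

variable {X : Type*} [Fintype X] [DecidableEq X] {A B z : Matrix X X ℝ} {a b : ℝ}

/-- the trace of `z Y`, `z` central -/
theorem tr_Y (hzA : A * z = z * A) :
    (z * Y A B a b).trace = 2 * (z * (A * B)).trace - (b - 1) * (z * A).trace - (a - 1) * (z * B).trace +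
      (a - 1) * (b - 1) * z.trace := by
  have h1 : (z * (B * A)).trace = (z * (A * B)).trace := by
    rw [← mul_assoc, Matrix.trace_mul_comm, ← mul_assoc, hzA, mul_assoc]
  rw [Y_def]
  simp only [mul_add, mul_sub, mul_smul_comm, mul_one, Matrix.trace_add, Matrix.trace_sub, Matrix.trace_smul,
    smul_eq_mul, h1]
  ring

/-- the trace of `z Y A` -/
theorem tr_YA (hA : A * A = (a - 1) • A + a • (1 : Matrix X X ℝ)) (hzA : A * z = z * A) :
    (z * Y A B a b * A).trace = (a - 1) * (z * (A * B)).trace + 2 * a * (z * B).trace - a * (b - 1) * z.trace := by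
  have h1 : (z * (B * A)).trace = (z * (A * B)).trace := by
    rw [← mul_assoc, Matrix.trace_mul_comm, ← mul_assoc, hzA, mul_assoc]
  have h2 : (z * (A * (B * A))).trace = (a - 1) * (z * (A * B)).trace + a * (z * B).trace := by
    have e : z * (A * (B * A)) = (z * A * B) * A := by noncomm_ring
    have e2 : A * (z * A * B) = z * (A * A) * B := by
      rw [← mul_assoc, ← mul_assoc, hzA]; noncomm_ring
    rw [e, Matrix.trace_mul_comm, e2, hA, mul_add, add_mul, mul_smul_comm, mul_smul_comm, mul_one, smul_mul_assoc,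
      smul_mul_assoc, Matrix.trace_add, Matrix.trace_smul, Matrix.trace_smul, smul_eq_mul, smul_eq_mul, mul_assoc z]
  rw [Y_def]
  simp only [mul_add, mul_sub, sub_mul, add_mul, mul_smul_comm, smul_mul_assoc, mul_one, Matrix.trace_add,
    Matrix.trace_sub, Matrix.trace_smul, smul_eq_mul, mul_assoc, hA, h1, h2]
  ring

/-- the trace of `z Y B` -/
theorem tr_YB (hB : B * B = (b - 1) • B + b • (1 : Matrix X X ℝ)) (hzA : A * z = z * A) (hzB : B * z = z * B) :
    (z * Y A B a b * B).trace = (b - 1) * (z * (A * B)).trace + 2 * b * (z * A).trace - b * (a - 1) * z.trace := by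
  have h1 : (z * (B * A)).trace = (z * (A * B)).trace := by
    rw [← mul_assoc, Matrix.trace_mul_comm, ← mul_assoc, hzA, mul_assoc]
  rw [Y_symm, tr_YA hB hzB, h1]

end trace

end Cfsg.Agent.H740.Eight.HeckeAlg
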