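import Cfsg.Agent.H740.Eight.Hecke
import Cfsg.Agent.H740.Eight.HeckeAlg
import Cfsg.Agent.FixBN.Split

/-!
# Character degrees from central idempotents of the Hecke algebra of a (B,N)-pair of rank two (S4899)

* `degree_of_central` : `P.S = {s, t}`, `p` an idempotent of the Hecke algebra, commuting with `T_s`, with `Y p = θ p`
  (`Y` the central element): `(tr p + tr (p T_s)) / (1 + q_s)` is a character degree;
* `q_eq` : `q_s = |U : V|`;
* `hecke_data` : the relations and the traces of the alternating products.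
-/

set_option autoImplicit false
set_option linter.unusedSectionVars false

namespace Cfsg.Agent.H740.Eight.HeckeDeg

open Cfsg Cfsg.Agent.LieRecognition.FeitHigmanGroup Cfsg.Agent.LieExceptional.BNPairCore
open Cfsg.Agent.LieRecognition.FeitHigmanHecke (Y Y_def Y_symm Y_mul_A Y_mul_B)
open Cfsg.Agent.H740.Eight.Hecke Cfsg.Agent.H740.Eight.HeckeAlg

universe u

variable {G : Type u} [Group G] {P : BNPair G}

section deg

variable [Finite G] [Fintype (G ⧸ P.B)] [DecidableEq (G ⧸ P.B)]

/-- **The degrees of the principal series.** -/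
theorem degree_of_central {s t : G} (hS : P.S = {s, t}) {p : Matrix (G ⧸ P.B) (G ⧸ P.B) ℝ} {θ : ℝ} (hinv : Inv G p)
    (hpA : T P s * p = p * T P s) (hpp : p * p = p) (hY : Y (T P s) (T P t) (q P s) (q P t) * p = θ • p)
    (htr : p.trace + (p * T P s).trace ≠ 0) :
    ∃ d ∈ charDegrees G, (d : ℝ) * (1 + q P s) = p.trace + (p * T P s).trace := by
  have hs : s ∈ P.S := by rw [hS]; simp
  have ha : (1 : ℝ) + (q P s : ℝ) ≠ 0 := by positivity
  have hA := T_sq (P := P) hs
  set e := ee (T P s) p (q P s) with he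
  have htre : e.trace * (1 + q P s) = p.trace + (p * T P s).trace := by
    have h9 : p * (1 + T P s) = p + p * T P s := by rw [mul_add, mul_one]
    rw [he, ee_def, h9, Matrix.trace_smul, Matrix.trace_add, smul_eq_mul]
    field_simp
  have hne : e ≠ 0 := by
    intro h
    rw [h, Matrix.trace_zero, zero_mul] at htre
    exact htr htre.symm
  have hinv' : Inv G e := by
    rw [he, ee_def]
    exact Inv.smul _ (hinv.mul (Inv.one.add (inv_T s)))
  obtain ⟨d, hd, hd'⟩ := degree_of_idem hS hinv' (ee_sq hA ha hpA hpp) hne (A_ee hA hpA) (A_B_ee hA hY hpA)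
    (ee_B_ee hA ha hY hpA hpp)
  exact ⟨d, hd, by rw [hd', htre]⟩

theorem inv_Y (s t : G) (a b : ℝ) : Inv G (Y (T P s) (T P t) a b) := by
  rw [Y_def]
  exact ((((inv_T s).mul (inv_T t)).add ((inv_T t).mul (inv_T s))).sub (Inv.smul _ (inv_T s))).sub
    (Inv.smul _ (inv_T t)) |>.add (Inv.smul _ Inv.one)

end deg

theorem alt_two_mul {M : Type*} [Monoid M] (a b : M) : ∀ k : ℕ, alt (2 * k) a b = (a * b) ^ k
  | 0 => by rw [mul_zero, alt_zero, pow_zero]
  | k + 1 => by
    rw [show 2 * (k + 1) = (2 * k + 1) + 1 by ring, alt_succ, alt_succ, alt_two_mul a b k, pow_succ', mul_assoc]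

/-- the relations and the traces -/
theorem hecke_data [Finite G] [Fintype (G ⧸ P.B)] [DecidableEq (G ⧸ P.B)] {s t : G} (hS : P.S = {s, t}) (hst : s ≠ t)
    {n : ℕ} (hn : ((P.B ⊓ P.N).subgroupOf P.N).index = 2 * n) :
    alt n (T P s) (T P t) = alt n (T P t) (T P s) ∧
      ∀ k, 1 ≤ k → k ≤ n → (alt k (T P s) (T P t)).trace = 0 ∧ (alt k (T P t) (T P s)).trace = 0 := by
  have hs : s ∈ P.S := by rw [hS]; simp
  have ht : t ∈ P.S := by rw [hS]; simp
  obtain ⟨n', hn2, hred, hbraid, hne⟩ := exists_max_red hS hst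
  have h0 := card_weyl hS (by omega) hred hbraid hne
  rw [hn] at h0
  obtain rfl : n = n' := by omega
  have hredle : ∀ k, k ≤ n → Red P s t k := fun k hk => hred.of_le hs ht hk
  refine ⟨?_, ?_⟩
  · rw [alt_T hs ht hred.1, alt_T ht hs hred.2]
    exact T_congr hbraid
  · intro k hk1 hkn
    have h1 := hredle k hkn
    rw [alt_T hs ht h1.1, alt_T ht hs h1.2]
    constructor
    · apply trace_T
      intro h
      have h3 := (len_eq_zero_iff (alt_mem_N hs ht k)).2 h
      rw [h1.1] at h3
      omega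
    · apply trace_T
      intro h
      have h3 := (len_eq_zero_iff (alt_mem_N ht hs k)).2 h
      rw [h1.2] at h3
      omega

open Cfsg.Agent.FixBN Cfsg.Agent.Schreier.BNSch in
/-- the parameters -/
theorem q_eq [Finite G] {p : ℕ} {U V : Subgroup G} (S : FixBN.Split P p U) {s : G} (hs : s ∈ P.S)
    (hV : Node P U s V) : q P s = V.relIndex U := by
  have hset : {y : G ⧸ P.B | R P s ((1 : G) : G ⧸ P.B) y} = MulAction.orbit U (QuotientGroup.mk s : G ⧸ P.B) := by
    ext y
    induction y using QuotientGroup.induction_on with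
    | H g =>
      show R P s ((1 : G) : G ⧸ P.B) (g : G ⧸ P.B) ↔ _
      rw [R_mk_iff, inv_one, one_mul]
      constructor
      · intro h
        obtain ⟨b, hb, c, hc, rfl⟩ := mem_C.1 h
        obtain ⟨u, hu, huN⟩ := S.cover b hb
        refine ⟨⟨u, hu⟩, ?_⟩
        show ((u * s : G) : G ⧸ P.B) = _
        rw [QuotientGroup.eq]
        have h1 : u⁻¹ * b ∈ P.B := mul_mem (inv_mem (S.le hu)) hb
        have h2 : s⁻¹ * (u⁻¹ * b) * s ∈ P.B := conj_mem_inv (mem_N hs) h1 huN
        have e : (u * s)⁻¹ * (b * s * c) = (s⁻¹ * (u⁻¹ * b) * s) * c := by group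
        rw [e]
        exact mul_mem h2 hc
      · rintro ⟨u, hu⟩
        have h1 : ((u * s : G) : G ⧸ P.B) = (g : G ⧸ P.B) := hu
        rw [QuotientGroup.eq] at h1
        have e : g = (u : G) * s * (((u : G) * s)⁻¹ * g) := by group
        rw [e]
        exact mem_C.2 ⟨u, S.le u.2, _, h1, rfl⟩
  have hst : MulAction.stabilizer U (QuotientGroup.mk s : G ⧸ P.B) = V.subgroupOf U := by
    ext u
    rw [MulAction.mem_stabilizer_iff, Subgroup.mem_subgroupOf]
    have h1 : u • (QuotientGroup.mk s : G ⧸ P.B) = QuotientGroup.mk ((u : G) * s) := rfl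
    rw [h1, eq_comm, QuotientGroup.eq, ← mul_assoc]
    exact ⟨fun h => hV.stab u u.2 h, fun h => S.le (hV.le (hV.conj_s u h))⟩
  have h1 := MulAction.index_stabilizer (G := U) (x := (QuotientGroup.mk s : G ⧸ P.B))
  rw [hst, ← hset] at h1
  unfold q
  rw [Subgroup.relIndex, h1]
  rfl

end Cfsg.Agent.H740.Eight.HeckeDeg
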