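import Cfsg.Agent.LieRecognition.FeitHigmanGroup
import Cfsg.Agent.Characters.Core
import Cfsg.Agent.CharactersDeep.InvRep
import Cfsg.Agent.Blocks.Basic
import Cfsg.Prelude.Def_DegreeGraph

/-!
# Character degrees from primitive idempotents of the Hecke algebra of a (B,N)-pair of rank two (S4899)

* `idem_irr` : a `G`-invariant idempotent matrix `e` on a `G`-set whose corner in the algebra of the `G`-invariant
  matrices is one-dimensional: the trace of `e` is the degree of an irreducible character;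
* `mem_span` : the Hecke matrices span the `G`-invariant matrices on `G ⧸ B`;
* `degree_of_idem` : (B,N)-pair of rank two, `e` an idempotent, `T_s e = α e`, `T_s T_t e ∈ ⟨e, T_t e⟩`,
  `e T_t e ∈ ⟨e⟩`: the trace of `e` is a character degree of `G`.
-/

set_option autoImplicit false
set_option linter.unusedSectionVars false

namespace Cfsg.Agent.H740.Eight.Hecke

open Cfsg Cfsg.Agent.LieRecognition.FeitHigmanGroup Cfsg.Agent.LieExceptional.BNPairCore

universe u

theorem irreducible_of_scalar {G : Type*} [Group G] [Finite G] {V : Type*} [AddCommGroup V] [Module ℂ V]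
    [Nontrivial V] (ρ : Representation ℂ G V)
    (h : ∀ f : V →ₗ[ℂ] V, (∀ g v, f (ρ g v) = ρ g (f v)) → ∃ c : ℂ, ∀ v, f v = c • v) : ρ.IsIrreducible := by
  rw [CharactersDeep.InvRep.isIrreducible_iff]
  refine ⟨inferInstance, fun p hp => ?_⟩
  obtain ⟨U, hU⟩ := Characters.Core.exists_isCompl_sub (⟨p, fun g v hv => hp g v hv⟩ : Subrepresentation ρ)
  set q := U.toSubmodule with hq
  have hpq : IsCompl p q := hU
  have hqi : ∀ g, ∀ v ∈ q, ρ g v ∈ q := fun g v hv => U.apply_mem_toSubmodule g hv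
  set f := p.projection q hpq with hf
  have hfp : ∀ v ∈ p, f v = v := fun v hv => Submodule.projection_apply_left hpq ⟨v, hv⟩
  have hfq : ∀ v ∈ q, f v = 0 := fun v hv => Submodule.projection_apply_right hpq ⟨v, hv⟩
  have hfm : ∀ v, f v ∈ p := fun v => Submodule.projection_apply_mem hpq v
  obtain ⟨c, hc⟩ := h f (fun g v => by
    obtain ⟨a, ha, b, hb, rfl⟩ : ∃ a ∈ p, ∃ b ∈ q, a + b = v := by
      have h1 : v ∈ p ⊔ q := by rw [hpq.sup_eq_top]; trivial
      exact Submodule.mem_sup.1 h1
    rw [map_add, map_add, map_add, hfp _ (hp g a ha), hfq _ (hqi g b hb), hfp a ha, hfq b hb, map_add, map_zero])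
  by_cases hc0 : c = 0
  · left
    rw [eq_bot_iff]
    intro v hv
    rw [Submodule.mem_bot, ← hfp v hv, hc, hc0, zero_smul]
  · right
    rw [eq_top_iff]
    intro v _
    have h1 := hfm v
    rw [hc] at h1
    have h2 := p.smul_mem c⁻¹ h1
    rwa [smul_smul, inv_mul_cancel₀ hc0, one_smul] at h2

/-! ### invariant matrices on a `G`-set -/

section GSet

variable {G : Type*} [Group G] {X : Type*} [MulAction G X] {R : Type*}

/-- `G`-invariant matrices -/
def Inv (G : Type*) [Group G] [MulAction G X] (M : Matrix X X R) : Prop := ∀ (g : G) (x y : X), M (g • x) (g • y) = M x y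

section ring

variable [CommRing R] [Fintype X]

theorem Inv.mul {M N : Matrix X X R} (hM : Inv G M) (hN : Inv G N) : Inv G (M * N) := by
  intro g x y
  rw [Matrix.mul_apply, Matrix.mul_apply]
  exact (Fintype.sum_equiv (MulAction.toPerm g) (fun z => M x z * N z y) (fun z => M (g • x) z * N z (g • y))
    fun z => by
      show M x z * N z y = M (g • x) (g • z) * N (g • z) (g • y)
      rw [hM, hN]).symm

omit [Fintype X] in
theorem Inv.add {M N : Matrix X X R} (hM : Inv G M) (hN : Inv G N) : Inv G (M + N) := by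
  intro g x y
  rw [Matrix.add_apply, Matrix.add_apply, hM, hN]

omit [Fintype X] in
theorem Inv.sub {M N : Matrix X X R} (hM : Inv G M) (hN : Inv G N) : Inv G (M - N) := by
  intro g x y
  rw [Matrix.sub_apply, Matrix.sub_apply, hM, hN]

omit [Fintype X] in
theorem Inv.smul {M : Matrix X X R} (c : R) (hM : Inv G M) : Inv G (c • M) := by
  intro g x y
  rw [Matrix.smul_apply, Matrix.smul_apply, hM]

omit [Fintype X] in
theorem Inv.one [DecidableEq X] : Inv G (1 : Matrix X X R) := by
  intro g x y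
  rw [Matrix.one_apply, Matrix.one_apply]
  simp only [smul_left_cancel_iff]

theorem Inv.map {S : Type*} {M : Matrix X X R} (f : R → S) (hM : Inv G M) : Inv G (M.map f) := by
  intro g x y
  rw [Matrix.map_apply, Matrix.map_apply, hM]

end ring

variable [Fintype X] [DecidableEq X]

/-- the permutation representation -/
noncomputable def perm (G : Type*) [Group G] (X : Type*) [MulAction G X] : Representation ℂ G (X → ℂ) where
  toFun g := LinearMap.funLeft ℂ ℂ (fun x => g⁻¹ • x)
  map_one' := by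
    ext v x
    simp [LinearMap.funLeft_apply]
  map_mul' g h := by
    refine LinearMap.ext fun v => funext fun x => ?_
    show v ((g * h)⁻¹ • x) = v (h⁻¹ • g⁻¹ • x)
    rw [mul_inv_rev, mul_smul]

theorem perm_apply (g : G) (v : X → ℂ) (x : X) : perm G X g v x = v (g⁻¹ • x) := rfl

theorem perm_comm {M : Matrix X X ℂ} (hM : Inv G M) (g : G) (v : X → ℂ) :
    Matrix.toLin' M (perm G X g v) = perm G X g (Matrix.toLin' M v) := by
  funext x
  rw [perm_apply, Matrix.toLin'_apply, Matrix.toLin'_apply]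
  unfold Matrix.mulVec dotProduct
  refine (Fintype.sum_equiv (MulAction.toPerm g) (fun z => M (g⁻¹ • x) z * v z) (fun z => M x z * perm G X g v z)
    fun z => ?_).symm
  show M (g⁻¹ • x) z * v z = M x (g • z) * v (g⁻¹ • g • z)
  rw [inv_smul_smul, ← hM g (g⁻¹ • x) z, smul_inv_smul]

theorem inv_of_comm {L : (X → ℂ) →ₗ[ℂ] (X → ℂ)} (hL : ∀ (g : G) v, L (perm G X g v) = perm G X g (L v)) :
    Inv G (LinearMap.toMatrix' L) := by
  intro g x y
  have h1 : ∀ x y, LinearMap.toMatrix' L x y = L (Pi.single y 1) x := fun x y => by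
    rw [LinearMap.toMatrix'_apply]
  have h2 : perm G X g (Pi.single y 1) = Pi.single (g • y) 1 := by
    funext z
    rw [perm_apply, Pi.single_apply, Pi.single_apply]
    congr 1
    rw [inv_smul_eq_iff]
  rw [h1, h1, ← h2, hL, perm_apply, inv_smul_smul]

/-- **A primitive idempotent gives an irreducible character.** -/
theorem idem_irr [Finite G] {e : Matrix X X ℂ} (hinv : Inv G e) (he : e * e = e) (hne : e ≠ 0)
    (hprim : ∀ M : Matrix X X ℂ, Inv G M → ∃ c : ℂ, e * M * e = c • e) :
    ∃ χ : G → ℂ, IsIrrCharacter G χ ∧ χ 1 = e.trace := by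
  set E := Matrix.toLin' e with hE
  have hEE : ∀ v, E (E v) = E v := fun v => by
    have h1 : E ∘ₗ E = E := by rw [hE, ← Matrix.toLin'_mul, he]
    exact LinearMap.congr_fun h1 v
  set W := LinearMap.range E with hW
  have hWE : ∀ v ∈ W, E v = v := by
    rintro _ ⟨v, rfl⟩
    exact hEE v
  have hWinv : ∀ g, ∀ v ∈ W, perm G X g v ∈ W := by
    intro g v hv
    refine ⟨perm G X g v, ?_⟩
    rw [hE, perm_comm hinv, ← hE, hWE v hv]
  let ρ : Representation ℂ G W :=
    { toFun := fun g => (perm G X g).restrict (hWinv g)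
      map_one' := by
        refine LinearMap.ext fun v => Subtype.ext ?_
        show perm G X 1 (v : X → ℂ) = v
        rw [map_one]; rfl
      map_mul' := fun g h => by
        refine LinearMap.ext fun v => Subtype.ext ?_
        show perm G X (g * h) (v : X → ℂ) = perm G X g (perm G X h v)
        rw [map_mul]; rfl }
  have hρ : ∀ g (v : W), ((ρ g v : W) : X → ℂ) = perm G X g v := fun g v => rfl
  have hnt : Nontrivial W := by
    rw [Submodule.nontrivial_iff_ne_bot]
    intro h
    apply hne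
    have h1 : E = 0 := LinearMap.range_eq_bot.1 h
    rw [hE] at h1
    exact (LinearEquiv.map_eq_zero_iff _).1 h1
  have hirr : ρ.IsIrreducible := by
    apply irreducible_of_scalar
    intro f hf
    set L : (X → ℂ) →ₗ[ℂ] (X → ℂ) := W.subtype ∘ₗ f ∘ₗ E.rangeRestrict with hL
    have hLa : ∀ v, L v = (f (E.rangeRestrict v) : X → ℂ) := fun v => rfl
    have hLc : ∀ (g : G) v, L (perm G X g v) = perm G X g (L v) := by
      intro g v
      rw [hLa, hLa, ← hρ, ← hf]
      congr 2
      apply Subtype.ext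
      show E (perm G X g v) = perm G X g (E v)
      rw [hE, perm_comm hinv]
    obtain ⟨c, hc⟩ := hprim _ (inv_of_comm hLc)
    have h1 : ∀ v, E (L (E v)) = c • E v := by
      intro v
      have h2 := congrArg Matrix.toLin' hc
      rw [Matrix.toLin'_mul, Matrix.toLin'_mul, Matrix.toLin'_toMatrix', map_smul] at h2
      exact LinearMap.congr_fun h2 v
    refine ⟨c, fun w => Subtype.ext ?_⟩
    have h3 := h1 (w : X → ℂ)
    have h4 : E.rangeRestrict (w : X → ℂ) = w := Subtype.ext (hWE _ w.2)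
    rw [hWE _ w.2, hLa, h4, hWE _ (f w).2] at h3
    exact h3
  refine ⟨ρ.character, Characters.Core.isIrrCharacter_of_rep ρ hirr, ?_⟩
  have h5 : IsIdempotentElem E := by
    show E ∘ₗ E = E
    exact LinearMap.ext hEE
  have h6 := (LinearMap.IsIdempotentElem.isProj_range _ h5).trace
  rw [Representation.char_one, ← Matrix.trace_toLin'_eq, ← hE, h6]

end GSet

/-! ### the Hecke matrices -/

variable {G : Type u} [Group G] {P : BNPair G}

theorem inv_T (w : G) : Inv G (T P w) := by
  intro g x y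
  rw [T_apply, T_apply]
  congr 1
  induction x using QuotientGroup.induction_on with
  | H a =>
  induction y using QuotientGroup.induction_on with
  | H b =>
    have h1 : g • (a : G ⧸ P.B) = ((g * a : G) : G ⧸ P.B) := rfl
    have h2 : g • (b : G ⧸ P.B) = ((g * b : G) : G ⧸ P.B) := rfl
    rw [h1, h2, R_mk_iff, R_mk_iff]
    have e : (g * a)⁻¹ * (g * b) = a⁻¹ * b := by group
    rw [e]

/-- the complex Hecke matrices -/
noncomputable def Tc (w : G) : Matrix (G ⧸ P.B) (G ⧸ P.B) ℂ := (T P w).map Complex.ofReal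

theorem Tc_apply (w x y : G) : (Tc w : Matrix (G ⧸ P.B) (G ⧸ P.B) ℂ) (x : G ⧸ P.B) (y : G ⧸ P.B) =
    (open Classical in if x⁻¹ * y ∈ C P w then 1 else 0) := by
  classical
  unfold Tc
  rw [Matrix.map_apply, T_apply]
  by_cases h : x⁻¹ * y ∈ C P w
  · rw [if_pos (R_mk_iff.2 h), if_pos h, Complex.ofReal_one]
  · rw [if_neg (fun h' => h (R_mk_iff.1 h')), if_neg h, Complex.ofReal_zero]

theorem mem_span [Finite G] {M : Matrix (G ⧸ P.B) (G ⧸ P.B) ℂ} (hM : Inv G M) :
    M ∈ Submodule.span ℂ (Set.range fun w : G => (Tc w : Matrix (G ⧸ P.B) (G ⧸ P.B) ℂ)) := by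
  classical
  have : Fintype (DoubleCoset.Quotient (P.B : Set G) (P.B : Set G)) := by
    have : Finite (DoubleCoset.Quotient (P.B : Set G) (P.B : Set G)) :=
      Finite.of_surjective (DoubleCoset.mk P.B P.B) Quotient.mk_surjective
    exact Fintype.ofFinite _
  have h1 : M = ∑ D : DoubleCoset.Quotient (P.B : Set G) (P.B : Set G),
      M ((1 : G) : G ⧸ P.B) ((D.out : G) : G ⧸ P.B) • Tc D.out := by
    ext x y
    rw [Matrix.sum_apply]
    induction x using QuotientGroup.induction_on with
    | H g =>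
    induction y using QuotientGroup.induction_on with
    | H h =>
      rw [Finset.sum_eq_single (DoubleCoset.mk P.B P.B (g⁻¹ * h))]
      · obtain ⟨b, c, hb, hc, h2⟩ := DoubleCoset.mk_out_eq_mul P.B P.B (g⁻¹ * h)
        rw [Matrix.smul_apply, Tc_apply, h2, if_pos]
        · rw [smul_eq_mul, mul_one]
          have e1 : (((b * (g⁻¹ * h) * c : G)) : G ⧸ P.B) = ((b * (g⁻¹ * h) : G) : G ⧸ P.B) := by
            rw [QuotientGroup.eq]
            have : (b * (g⁻¹ * h) * c)⁻¹ * (b * (g⁻¹ * h)) = c⁻¹ := by group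
            rw [this]
            exact inv_mem hc
          have e2 : ((1 : G) : G ⧸ P.B) = ((b : G) : G ⧸ P.B) := by
            rw [QuotientGroup.eq, inv_one, one_mul]
            exact hb
          rw [e1, e2]
          have e3 := hM (b * g⁻¹) (g : G ⧸ P.B) (h : G ⧸ P.B)
          have e4 : (b * g⁻¹) • (g : G ⧸ P.B) = ((b : G) : G ⧸ P.B) := by
            show ((b * g⁻¹ * g : G) : G ⧸ P.B) = _
            rw [inv_mul_cancel_right]
          have e5 : (b * g⁻¹) • (h : G ⧸ P.B) = ((b * (g⁻¹ * h) : G) : G ⧸ P.B) := by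
            show ((b * g⁻¹ * h : G) : G ⧸ P.B) = _
            rw [mul_assoc]
          rw [e4, e5] at e3
          exact e3.symm
        · exact mem_C.2 ⟨b⁻¹, inv_mem hb, c⁻¹, inv_mem hc, by group⟩
      · intro D _ hD
        rw [Matrix.smul_apply, Tc_apply, if_neg, smul_zero]
        intro h2
        apply hD
        have h3 : DoubleCoset.mk P.B P.B (g⁻¹ * h) = DoubleCoset.mk P.B P.B D.out :=
          DoubleCoset.mk_eq_of_doubleCoset_eq (DoubleCoset.doubleCoset_eq_of_mem h2)
        rw [h3]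
        exact (Quotient.out_eq' D).symm
      · intro h2
        exact absurd (Finset.mem_univ _) h2
  rw [h1]
  exact Submodule.sum_mem _ fun D _ => Submodule.smul_mem _ _ (Submodule.subset_span ⟨_, rfl⟩)

variable [Finite G] [Fintype (G ⧸ P.B)] [DecidableEq (G ⧸ P.B)]

/-- left ideals -/
theorem alt_mul_mem {M : Type*} [Ring M] [Algebra ℝ M] (U : Submodule ℝ M) (k : ℕ) : ∀ (A B : M),
    (∀ x ∈ U, A * x ∈ U) → (∀ x ∈ U, B * x ∈ U) → ∀ x ∈ U, alt k A B * x ∈ U := by
  induction k with
  | zero =>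
    intro A B _ _ x hx
    rw [alt_zero, one_mul]
    exact hx
  | succ k ih =>
    intro A B hA hB x hx
    rw [alt_succ, mul_assoc]
    exact hA _ (ih B A hB hA x hx)

theorem T_mul_mem {s t : G} (hS : P.S = {s, t}) (U : Submodule ℝ (Matrix (G ⧸ P.B) (G ⧸ P.B) ℝ))
    (hA : ∀ x ∈ U, T P s * x ∈ U) (hB : ∀ x ∈ U, T P t * x ∈ U) (w : G) {x : Matrix (G ⧸ P.B) (G ⧸ P.B) ℝ}
    (hx : x ∈ U) : T P w * x ∈ U := by
  have hs : s ∈ P.S := by rw [hS]; simp
  have ht : t ∈ P.S := by rw [hS]; simp
  obtain ⟨n, hn, hwn⟩ := bruhat (P := P) w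
  have h1 : T P w = T P n := by
    have h2 : R P w = R P n := by
      funext x y
      unfold R
      rw [C_eq_of_mem hwn]
    unfold T
    rw [h2]
  rw [h1]
  rcases exists_alt hS hn with h3 | h3
  · rw [← T_congr h3, ← alt_T hs ht (by rw [len_congr h3])]
    exact alt_mul_mem U _ _ _ hA hB x hx
  · rw [← T_congr h3, ← alt_T ht hs (by rw [len_congr h3])]
    exact alt_mul_mem U _ _ _ hB hA x hx

/-- **The trace of a primitive idempotent of the Hecke algebra is a character degree.** -/
theorem degree_of_idem {s t : G} (hS : P.S = {s, t}) {e : Matrix (G ⧸ P.B) (G ⧸ P.B) ℝ} (hinv : Inv G e)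
    (he : e * e = e) (hne : e ≠ 0) {α c₁ c₂ c₃ : ℝ} (h1 : T P s * e = α • e)
    (h2 : T P s * (T P t * e) = c₁ • e + c₂ • (T P t * e)) (h3 : e * (T P t * e) = c₃ • e) :
    ∃ d ∈ charDegrees G, (d : ℝ) = e.trace := by
  classical
  have ht : t ∈ P.S := by rw [hS]; simp
  set U : Submodule ℝ (Matrix (G ⧸ P.B) (G ⧸ P.B) ℝ) := Submodule.span ℝ {e, T P t * e} with hU
  have heU : e ∈ U := Submodule.subset_span (by simp)
  have hfU : T P t * e ∈ U := Submodule.subset_span (by simp)
  have hA : ∀ x ∈ U, T P s * x ∈ U := by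
    intro x hx
    obtain ⟨a, b, rfl⟩ := Submodule.mem_span_pair.1 hx
    rw [mul_add, mul_smul_comm, mul_smul_comm, h1, h2]
    exact U.add_mem (U.smul_mem _ (U.smul_mem _ heU)) (U.smul_mem _ (U.add_mem (U.smul_mem _ heU) (U.smul_mem _ hfU)))
  have hB : ∀ x ∈ U, T P t * x ∈ U := by
    intro x hx
    obtain ⟨a, b, rfl⟩ := Submodule.mem_span_pair.1 hx
    rw [mul_add, mul_smul_comm, mul_smul_comm, ← mul_assoc (T P t) (T P t), T_sq ht, add_mul, smul_mul_assoc,
      smul_mul_assoc, one_mul]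
    exact U.add_mem (U.smul_mem _ hfU) (U.smul_mem _ (U.add_mem (U.smul_mem _ hfU) (U.smul_mem _ heU)))
  have hcor : ∀ w : G, ∃ c : ℝ, e * T P w * e = c • e := by
    intro w
    obtain ⟨a, b, hab⟩ := Submodule.mem_span_pair.1 (T_mul_mem hS U hA hB w heU)
    refine ⟨a + b * c₃, ?_⟩
    rw [mul_assoc, ← hab, mul_add, mul_smul_comm, mul_smul_comm, he, h3, smul_smul, add_smul]
  -- complexification
  set e' : Matrix (G ⧸ P.B) (G ⧸ P.B) ℂ := e.map Complex.ofReal with he'
  have hmul : ∀ A B : Matrix (G ⧸ P.B) (G ⧸ P.B) ℝ, (A * B).map Complex.ofReal =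
      A.map Complex.ofReal * B.map Complex.ofReal := fun A B => Matrix.map_mul (f := Complex.ofRealHom)
  have hprim : ∀ M : Matrix (G ⧸ P.B) (G ⧸ P.B) ℂ, Inv G M → ∃ c : ℂ, e' * M * e' = c • e' := by
    intro M hM
    refine Submodule.span_induction (p := fun M _ => ∃ c : ℂ, e' * M * e' = c • e') ?_ ?_ ?_ ?_ (mem_span hM)
    · rintro _ ⟨w, rfl⟩
      obtain ⟨c, hc⟩ := hcor w
      refine ⟨c, ?_⟩
      show e' * (T P w).map Complex.ofReal * e' = _
      rw [he', ← hmul, ← hmul, hc]
      ext x y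
      simp
    · exact ⟨0, by simp⟩
    · rintro A B _ _ ⟨a, ha⟩ ⟨b, hb⟩
      exact ⟨a + b, by rw [mul_add, add_mul, ha, hb, add_smul]⟩
    · rintro a A _ ⟨b, hb⟩
      exact ⟨a * b, by rw [mul_smul_comm, smul_mul_assoc, hb, smul_smul]⟩
  have hne' : e' ≠ 0 := by
    intro h
    apply hne
    ext x y
    have h4 := congrFun (congrFun h x) y
    rw [he', Matrix.map_apply, Matrix.zero_apply] at h4
    rw [Matrix.zero_apply]
    exact_mod_cast h4
  obtain ⟨χ, hχ, hχ1⟩ := idem_irr (hinv.map Complex.ofReal) (by rw [← hmul, he]) hne' hprim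
  refine ⟨charDegree χ, ⟨⟨χ, hχ⟩, rfl⟩, ?_⟩
  rw [Blocks.Basic.irr_one_eq_charDegree hχ] at hχ1
  have h5 : e'.trace = ((e.trace : ℝ) : ℂ) := by
    rw [he', Matrix.trace, Matrix.trace, Complex.ofReal_sum]
    rfl
  rw [h5] at hχ1
  exact_mod_cast hχ1

end Cfsg.Agent.H740.Eight.Hecke
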