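import Cfsg.Agent.H740.Eight.HeckeAlg

/-!
# The Hecke algebra of the dihedral group of order 16 with parameters 2 and 4 (S4899)

`y` is the central element; `y (y - 4) (y + 4) (y - 9) (y + 6) = 0`; the traces of `y ^ k`, `y ^ k A`, `y ^ k B`,
`k ≤ 4`; the central idempotents for the eigenvalues `4, 0, -4, -6` of `y`.
-/

set_option autoImplicit false
set_option linter.unusedSectionVars false

namespace Cfsg.Agent.H740.Eight.Oct

open Cfsg.Agent.LieRecognition.FeitHigmanHecke Cfsg.Agent.H740.Eight.HeckeAlg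

section alg

variable {M : Type*} [Ring M] [Algebra ℝ M] {A B : M}

theorem minpol (hA : A * A = ((2 : ℝ) - 1) • A + (2 : ℝ) • (1 : M)) (hB : B * B = ((4 : ℝ) - 1) • B + (4 : ℝ) • (1 : M))
    (hbr : (A * B) ^ 4 = (B * A) ^ 4) :
    Y A B 2 4 ^ 5 = (3 : ℝ) • Y A B 2 4 ^ 4 + (70 : ℝ) • Y A B 2 4 ^ 3 - (48 : ℝ) • Y A B 2 4 ^ 2 -
      (864 : ℝ) • Y A B 2 4 := by
  have h1 := aeval_P_mul hA hB 3
  rw [hbr, sub_self] at h1
  have h2 : Polynomial.aeval (Y A B 2 4) (P ((2 : ℝ) * 4) 3) = Y A B 2 4 ^ 3 - (16 : ℝ) • Y A B 2 4 := by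
    have e2 : P ((2 : ℝ) * 4) 2 = Polynomial.X * P ((2 : ℝ) * 4) 1 - Polynomial.C ((2 : ℝ) * 4) * P ((2 : ℝ) * 4) 0 :=
      P_add_two _ 0
    have e3 : P ((2 : ℝ) * 4) 3 = Polynomial.X * P ((2 : ℝ) * 4) 2 - Polynomial.C ((2 : ℝ) * 4) * P ((2 : ℝ) * 4) 1 :=
      P_add_two _ 1
    rw [e3, e2, P_one, P_zero]
    simp only [map_sub, map_mul, Polynomial.aeval_X, Polynomial.aeval_C, map_one, Algebra.algebraMap_eq_smul_one,
      smul_mul_assoc, one_mul, mul_one, mul_sub, mul_smul_comm]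
    simp only [pow_succ, pow_zero, one_mul, mul_assoc]
    module
  rw [h2] at h1
  have h3 := comm_sq hA hB
  set y := Y A B 2 4 with hy
  have h4 : (y ^ 3 - (16 : ℝ) • y) * ((y - ((2 : ℝ) * 4 + 1) • (1 : M)) * (y + ((2 : ℝ) + 4) • (1 : M))) = 0 := by
    rw [← h3, ← mul_assoc, h1, zero_mul]
  have h5 : (y ^ 3 - (16 : ℝ) • y) * ((y - ((2 : ℝ) * 4 + 1) • (1 : M)) * (y + ((2 : ℝ) + 4) • (1 : M))) =
      y ^ 5 - (3 : ℝ) • y ^ 4 - (70 : ℝ) • y ^ 3 + (48 : ℝ) • y ^ 2 + (864 : ℝ) • y := by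
    simp only [mul_add, sub_mul, mul_sub, smul_mul_assoc, mul_smul_comm, one_mul, mul_one, pow_succ, pow_zero,
      mul_assoc]
    module
  rw [h5] at h4
  rw [← sub_eq_zero, ← h4]
  module

/-- a polynomial of degree at most `4` -/
noncomputable def pol (y : M) (c₀ c₁ c₂ c₃ c₄ : ℝ) : M := c₄ • y ^ 4 + c₃ • y ^ 3 + c₂ • y ^ 2 + c₁ • y + c₀ • 1

theorem pol_def (y : M) (c₀ c₁ c₂ c₃ c₄ : ℝ) :
    pol y c₀ c₁ c₂ c₃ c₄ = c₄ • y ^ 4 + c₃ • y ^ 3 + c₂ • y ^ 2 + c₁ • y + c₀ • 1 := rfl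

theorem comm_pol {y z : M} (h : z * y = y * z) (c₀ c₁ c₂ c₃ c₄ : ℝ) :
    z * pol y c₀ c₁ c₂ c₃ c₄ = pol y c₀ c₁ c₂ c₃ c₄ * z := by
  have hc : Commute z y := h
  rw [pol_def]
  exact (((((hc.pow_right 4).smul_right c₄).add_right ((hc.pow_right 3).smul_right c₃)).add_right
    ((hc.pow_right 2).smul_right c₂)).add_right (hc.smul_right c₁)).add_right ((Commute.one_right z).smul_right c₀)

theorem y_pol {y : M} (hm : y ^ 5 = (3 : ℝ) • y ^ 4 + (70 : ℝ) • y ^ 3 - (48 : ℝ) • y ^ 2 - (864 : ℝ) • y)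
    {c₀ c₁ c₂ c₃ c₄ θ : ℝ} (h4 : c₃ + 3 * c₄ = θ * c₄) (h3 : c₂ + 70 * c₄ = θ * c₃) (h2 : c₁ - 48 * c₄ = θ * c₂)
    (h1 : c₀ - 864 * c₄ = θ * c₁) (h0 : θ * c₀ = 0) : y * pol y c₀ c₁ c₂ c₃ c₄ = θ • pol y c₀ c₁ c₂ c₃ c₄ := by
  have e1 : y * pol y c₀ c₁ c₂ c₃ c₄ = c₄ • y ^ 5 + c₃ • y ^ 4 + c₂ • y ^ 3 + c₁ • y ^ 2 + c₀ • y := by
    rw [pol_def]
    simp only [mul_add, mul_smul_comm, ← pow_succ', mul_one, ← pow_two]
  have e2 : θ • pol y c₀ c₁ c₂ c₃ c₄ = (θ * c₄) • y ^ 4 + (θ * c₃) • y ^ 3 + (θ * c₂) • y ^ 2 + (θ * c₁) • y +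
      (θ * c₀) • (1 : M) := by
    rw [pol_def]
    simp only [smul_add, smul_smul]
  rw [e1, e2, hm, ← h4, ← h3, ← h2, ← h1, h0]
  module

theorem pol_sq {y : M} {c₀ c₁ c₂ c₃ c₄ θ : ℝ} (h : y * pol y c₀ c₁ c₂ c₃ c₄ = θ • pol y c₀ c₁ c₂ c₃ c₄)
    (h1 : c₄ * θ ^ 4 + c₃ * θ ^ 3 + c₂ * θ ^ 2 + c₁ * θ + c₀ = 1) :
    pol y c₀ c₁ c₂ c₃ c₄ * pol y c₀ c₁ c₂ c₃ c₄ = pol y c₀ c₁ c₂ c₃ c₄ := by
  set p := pol y c₀ c₁ c₂ c₃ c₄ with hp
  have hk : ∀ k : ℕ, y ^ k * p = θ ^ k • p := by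
    intro k
    induction k with
    | zero => rw [pow_zero, pow_zero, one_mul, one_smul]
    | succ k ih => rw [pow_succ, mul_assoc, h, mul_smul_comm, ih, smul_smul, pow_succ, mul_comm]
  nth_rw 1 [hp]
  rw [pol_def, add_mul, add_mul, add_mul, add_mul, smul_mul_assoc, smul_mul_assoc, smul_mul_assoc, smul_mul_assoc,
    smul_mul_assoc, one_mul, hk, hk, hk, h, smul_smul, smul_smul, smul_smul, smul_smul, ← add_smul, ← add_smul,
    ← add_smul, ← add_smul, h1, one_smul]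

end alg

section trace

variable {X : Type*} [Fintype X] [DecidableEq X] {A B : Matrix X X ℝ}

/-- **the traces** -/
theorem traces (hA : A * A = ((2 : ℝ) - 1) • A + (2 : ℝ) • (1 : Matrix X X ℝ))
    (hB : B * B = ((4 : ℝ) - 1) • B + (4 : ℝ) • (1 : Matrix X X ℝ))
    (hAB : ∀ k, 1 ≤ k → k ≤ 4 → ((A * B) ^ k).trace = 0) (hAt : A.trace = 0) (hBt : B.trace = 0)
    {N : ℝ} (hN : (1 : Matrix X X ℝ).trace = N) (y : Matrix X X ℝ) (hy : y = Y A B 2 4) :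
    (y.trace = 3 * N ∧ (y ^ 2).trace = 47 * N ∧ (y ^ 3).trace = 303 * N ∧ (y ^ 4).trace = 3319 * N) ∧
    ((y * A).trace = -6 * N ∧ (y ^ 2 * A).trace = -26 * N ∧ (y ^ 3 * A).trace = -402 * N ∧
      (y ^ 4 * A).trace = -2674 * N) ∧
    ((y * B).trace = -4 * N ∧ (y ^ 2 * B).trace = -36 * N ∧ (y ^ 3 * B).trace = -324 * N ∧
      (y ^ 4 * B).trace = -3108 * N) := by
  have hcA : A * y = y * A := by rw [hy]; exact (Y_mul_A hA).symm
  have hcB : B * y = y * B := by rw [hy]; exact (Y_mul_B hB).symm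
  have hkA : ∀ k : ℕ, A * y ^ k = y ^ k * A := fun k => (show Commute A y from hcA).pow_right k
  have hkB : ∀ k : ℕ, B * y ^ k = y ^ k * B := fun k => (show Commute B y from hcB).pow_right k
  have t : ∀ k : ℕ, (y ^ (k + 1)).trace = 2 * (y ^ k * (A * B)).trace - 3 * (y ^ k * A).trace -
      (y ^ k * B).trace + 3 * (y ^ k).trace := by
    intro k
    have := tr_Y (A := A) (B := B) (a := 2) (b := 4) (hkA k)
    rw [← hy, ← pow_succ] at this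
    rw [this]
    ring
  have s : ∀ k : ℕ, (y ^ (k + 1) * A).trace = (y ^ k * (A * B)).trace + 4 * (y ^ k * B).trace -
      6 * (y ^ k).trace := by
    intro k
    have := tr_YA (B := B) (a := 2) (b := 4) hA (hkA k)
    rw [← hy, ← pow_succ] at this
    rw [this]
    ring
  have u : ∀ k : ℕ, (y ^ (k + 1) * B).trace = 3 * (y ^ k * (A * B)).trace + 8 * (y ^ k * A).trace -
      4 * (y ^ k).trace := by
    intro k
    have := tr_YB (A := A) (a := 2) (b := 4) hB (hkA k) (hkB k)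
    rw [← hy, ← pow_succ] at this
    rw [this]
    ring
  have v : ∀ k j : ℕ, (y ^ (k + 1) * (A * B) ^ (j + 1)).trace = (y ^ k * (A * B) ^ (j + 2)).trace +
      8 * (y ^ k * (A * B) ^ j).trace := by
    intro k j
    have h1 : y * (A * B) ^ (j + 1) = (A * B) ^ (j + 2) + (8 : ℝ) • (A * B) ^ j := by
      have := Y_mul_AB hA hB
      rw [← hy] at this
      rw [pow_succ', ← mul_assoc, this, add_mul, smul_mul_assoc, one_mul, pow_succ', pow_succ', mul_assoc]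
      norm_num
    rw [pow_succ, mul_assoc, h1, mul_add, Matrix.trace_add, mul_smul_comm, Matrix.trace_smul, smul_eq_mul]
  have v01 := hAB 1 (by norm_num) (by norm_num)
  have v02 := hAB 2 (by norm_num) (by norm_num)
  have v03 := hAB 3 (by norm_num) (by norm_num)
  have v04 := hAB 4 (by norm_num) (by norm_num)
  have v1 := v 0 0
  have v2 := v 1 0
  have v3 := v 2 0
  have v12 := v 0 1
  have v13 := v 0 2
  have v22 := v 1 1
  have t1 := t 0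
  have t2 := t 1
  have t3 := t 2
  have t4 := t 3
  have s1 := s 0
  have s2 := s 1
  have s3 := s 2
  have s4 := s 3
  have u1 := u 0
  have u2 := u 1
  have u3 := u 2
  have u4 := u 3
  simp only [zero_add, pow_zero, one_mul, pow_one, mul_one, Nat.reduceAdd, hN, hAt, hBt] at *
  refine ⟨⟨?_, ?_, ?_, ?_⟩, ⟨?_, ?_, ?_, ?_⟩, ?_, ?_, ?_, ?_⟩ <;> linarith

end trace

end Cfsg.Agent.H740.Eight.Oct
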