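import Cfsg.Agent.H740.Eight.Oct
import Cfsg.Agent.H740.Eight.HeckeDeg

/-!
# Groups with a (B,N)-pair of type `I₂(8)` and parameters 2 and 4: five character degrees (S4899)

`degs` : `351`, `650`, `675`, `1248`, `78` are character degrees (principal series of `²F₄(2)`).
-/

set_option autoImplicit false
set_option linter.unusedSectionVars false

namespace Cfsg.Agent.H740.Eight.OctDeg

open Cfsg Cfsg.Agent.LieRecognition.FeitHigmanGroup Cfsg.Agent.LieExceptional.BNPairCore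
open Cfsg.Agent.LieRecognition.FeitHigmanHecke (Y Y_def Y_symm Y_mul_A Y_mul_B)
open Cfsg.Agent.H740.Eight.Hecke Cfsg.Agent.H740.Eight.HeckeDeg Cfsg.Agent.H740.Eight.Oct

universe u

variable {G : Type u} [Group G] {P : BNPair G} [Finite G]

theorem inv_pol [Fintype (G ⧸ P.B)] [DecidableEq (G ⧸ P.B)] {y : Matrix (G ⧸ P.B) (G ⧸ P.B) ℝ} (hy : Inv G y)
    (c₀ c₁ c₂ c₃ c₄ : ℝ) : Inv G (pol y c₀ c₁ c₂ c₃ c₄) := by
  have hk : ∀ k : ℕ, Inv G (y ^ k) := by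
    intro k
    induction k with
    | zero => rw [pow_zero]; exact Inv.one
    | succ k ih => rw [pow_succ]; exact ih.mul hy
  rw [pol_def]
  exact ((((Inv.smul _ (hk 4)).add (Inv.smul _ (hk 3))).add (Inv.smul _ (hk 2))).add (Inv.smul _ hy)).add
    (Inv.smul _ Inv.one)

/-- **Five degrees.** -/
theorem degs {s t : G} (hS : P.S = {s, t}) (hst : s ≠ t) (h16 : ((P.B ⊓ P.N).subgroupOf P.N).index = 16)
    (hs : q P s = 2) (ht : q P t = 4) (hN : Nat.card (G ⧸ P.B) = 8775) :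
    351 ∈ charDegrees G ∧ 650 ∈ charDegrees G ∧ 675 ∈ charDegrees G ∧ 1248 ∈ charDegrees G ∧
      78 ∈ charDegrees G := by
  classical
  have : Fintype (G ⧸ P.B) := Fintype.ofFinite _
  have hsS : s ∈ P.S := by rw [hS]; simp
  have htS : t ∈ P.S := by rw [hS]; simp
  have hS' : P.S = {t, s} := by rw [hS, Set.pair_comm]
  obtain ⟨hbr, htr⟩ := hecke_data hS hst (n := 8) h16
  have hbr' : (T P s * T P t) ^ 4 = (T P t * T P s) ^ 4 := by
    rw [show (8 : ℕ) = 2 * 4 from rfl, alt_two_mul, alt_two_mul] at hbr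
    exact hbr
  have hA : T P s * T P s = ((2 : ℝ) - 1) • T P s + (2 : ℝ) • (1 : Matrix (G ⧸ P.B) (G ⧸ P.B) ℝ) := by
    have := T_sq (P := P) hsS
    rw [hs] at this
    exact_mod_cast this
  have hB : T P t * T P t = ((4 : ℝ) - 1) • T P t + (4 : ℝ) • (1 : Matrix (G ⧸ P.B) (G ⧸ P.B) ℝ) := by
    have := T_sq (P := P) htS
    rw [ht] at this
    exact_mod_cast this
  set y := Y (T P s) (T P t) 2 4 with hy
  have hyA : T P s * y = y * T P s := (Y_mul_A hA).symm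
  have hyB : T P t * y = y * T P t := (Y_mul_B hB).symm
  have hm := minpol hA hB hbr'
  rw [← hy] at hm
  have hAB : ∀ k, 1 ≤ k → k ≤ 4 → ((T P s * T P t) ^ k).trace = 0 := by
    intro k h1 h4
    rw [← alt_two_mul]
    exact (htr (2 * k) (by omega) (by omega)).1
  have hAt : (T P s).trace = 0 := by
    have := (htr 1 le_rfl (by norm_num)).1
    rwa [alt_one] at this
  have hBt : (T P t).trace = 0 := by
    have := (htr 1 le_rfl (by norm_num)).2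
    rwa [alt_one] at this
  have hN' : (1 : Matrix (G ⧸ P.B) (G ⧸ P.B) ℝ).trace = 8775 := by
    rw [Matrix.trace_one, ← Nat.card_eq_fintype_card, hN]
    norm_num
  obtain ⟨⟨t1, t2, t3, t4⟩, ⟨s1, s2, s3, s4⟩, u1, u2, u3, u4⟩ := traces hA hB hAB hAt hBt hN' y hy
  have hyinv : Inv G y := inv_Y s t 2 4
  -- the degrees
  have key : ∀ {c₀ c₁ c₂ c₃ c₄ θ : ℝ} {d : ℕ}, c₃ + 3 * c₄ = θ * c₄ → c₂ + 70 * c₄ = θ * c₃ →
      c₁ - 48 * c₄ = θ * c₂ → c₀ - 864 * c₄ = θ * c₁ → θ * c₀ = 0 →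
      c₄ * θ ^ 4 + c₃ * θ ^ 3 + c₂ * θ ^ 2 + c₁ * θ + c₀ = 1 → 0 < d →
      (3319 * c₄ + 303 * c₃ + 47 * c₂ + 3 * c₁ + c₀ - 2674 * c₄ - 402 * c₃ - 26 * c₂ - 6 * c₁) * 8775 = 3 * d →
      d ∈ charDegrees G := by
    intro c₀ c₁ c₂ c₃ c₄ θ d h4 h3 h2 h1 h0 hθ hd htrd
    have k1 := y_pol hm h4 h3 h2 h1 h0
    have k2 := pol_sq k1 hθ
    have k3 : (pol y c₀ c₁ c₂ c₃ c₄).trace + (pol y c₀ c₁ c₂ c₃ c₄ * T P s).trace = 3 * d := by
      rw [pol_def]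
      simp only [add_mul, smul_mul_assoc, one_mul, Matrix.trace_add, Matrix.trace_smul, smul_eq_mul, t1, t2, t3, t4,
        s1, s2, s3, s4, hAt, hN']
      rw [← htrd]
      ring
    obtain ⟨d', hd', hdd⟩ := degree_of_central hS (inv_pol hyinv c₀ c₁ c₂ c₃ c₄) (comm_pol hyA _ _ _ _ _) k2
      (θ := θ) (by
        rw [hs, ht]
        exact_mod_cast k1) (by
        rw [k3]
        have : (0 : ℝ) < d := by exact_mod_cast hd
        positivity)
    rw [k3, hs] at hdd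
    have : d' = d := by
      have h5 : (d' : ℝ) = d := by
        push_cast at hdd
        linarith
      exact_mod_cast h5
    rwa [this] at hd'
  have key' : ∀ {c₀ c₁ c₂ c₃ c₄ θ : ℝ} {d : ℕ}, c₃ + 3 * c₄ = θ * c₄ → c₂ + 70 * c₄ = θ * c₃ →
      c₁ - 48 * c₄ = θ * c₂ → c₀ - 864 * c₄ = θ * c₁ → θ * c₀ = 0 →
      c₄ * θ ^ 4 + c₃ * θ ^ 3 + c₂ * θ ^ 2 + c₁ * θ + c₀ = 1 → 0 < d →
      (3319 * c₄ + 303 * c₃ + 47 * c₂ + 3 * c₁ + c₀ - 3108 * c₄ - 324 * c₃ - 36 * c₂ - 4 * c₁) * 8775 = 5 * d →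
      d ∈ charDegrees G := by
    intro c₀ c₁ c₂ c₃ c₄ θ d h4 h3 h2 h1 h0 hθ hd htrd
    have k1 := y_pol hm h4 h3 h2 h1 h0
    have k2 := pol_sq k1 hθ
    have k3 : (pol y c₀ c₁ c₂ c₃ c₄).trace + (pol y c₀ c₁ c₂ c₃ c₄ * T P t).trace = 5 * d := by
      rw [pol_def]
      simp only [add_mul, smul_mul_assoc, one_mul, Matrix.trace_add, Matrix.trace_smul, smul_eq_mul, t1, t2, t3, t4,
        u1, u2, u3, u4, hBt, hN']
      rw [← htrd]
      ring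
    obtain ⟨d', hd', hdd⟩ := degree_of_central hS' (inv_pol hyinv c₀ c₁ c₂ c₃ c₄) (comm_pol hyB _ _ _ _ _) k2
      (θ := θ) (by
        rw [hs, ht, Y_symm]
        exact_mod_cast k1) (by
        rw [k3]
        have : (0 : ℝ) < d := by exact_mod_cast hd
        positivity)
    rw [k3, ht] at hdd
    have : d' = d := by
      have h5 : (d' : ℝ) = d := by
        push_cast at hdd
        linarith
      exact_mod_cast h5
    rwa [this] at hd'
  refine ⟨?_, ?_, ?_, ?_, ?_⟩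
  · refine key (c₀ := 0) (c₁ := 216 / 1600) (c₂ := 66 / 1600) (c₃ := -1 / 1600) (c₄ := -1 / 1600) (θ := 4)
      ?_ ?_ ?_ ?_ ?_ ?_ (by norm_num) ?_ <;> norm_num
  · refine key (c₀ := 1) (c₁ := 48 / 864) (c₂ := -70 / 864) (c₃ := -3 / 864) (c₄ := 1 / 864) (θ := 0)
      ?_ ?_ ?_ ?_ ?_ ?_ (by norm_num) ?_ <;> norm_num
  · refine key (c₀ := 0) (c₁ := -216 / 832) (c₂ := 42 / 832) (c₃ := 7 / 832) (c₄ := -1 / 832) (θ := -4)
      ?_ ?_ ?_ ?_ ?_ ?_ (by norm_num) ?_ <;> norm_num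
  · refine key (c₀ := 0) (c₁ := 144 / 1800) (c₂ := -16 / 1800) (c₃ := -9 / 1800) (c₄ := 1 / 1800) (θ := -6)
      ?_ ?_ ?_ ?_ ?_ ?_ (by norm_num) ?_ <;> norm_num
  · refine key' (c₀ := 0) (c₁ := 144 / 1800) (c₂ := -16 / 1800) (c₃ := -9 / 1800) (c₄ := 1 / 1800) (θ := -6)
      ?_ ?_ ?_ ?_ ?_ ?_ (by norm_num) ?_ <;> norm_num

end Cfsg.Agent.H740.Eight.OctDeg
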